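/-
helper23: module S4705-[PSING-COUNT] of helper17's sheet: the sum of a class function over the
`p`-singular elements when `|P| = p`, `C_G(P) = P Z(G)`, `|N_G(P) : C_G(P)| = 2`.
-/
import Mathlib
import Cfsg.Prelude.Def_Characters
import Cfsg.Prelude.Def_Blocks
import Cfsg.Agent.Lib.Helper17.PM2.Defs

set_option autoImplicit false
set_option linter.unusedSectionVars false

namespace Cfsg.Agent.Lib.Helper23.S4705

open Cfsg Cfsg.Agent.Lib.Helper17.PM2
open scoped ComplexConjugate

universe u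

section grp

variable {G : Type u} [Group G] [Finite G] {p : ℕ} [Fact p.Prime] (P : Sylow p G)

/-- every element of `P` is a power of any non-trivial element of `P` -/
theorem exists_pow_eq (hP : Nat.card P = p) {y : G} (hy : y ∈ (P : Subgroup G)) (hy1 : y ≠ 1)
    {h : G} (hh : h ∈ (P : Subgroup G)) : ∃ k : ℕ, y ^ k = h := by
  have hne : (⟨y, hy⟩ : ↥(P : Subgroup G)) ≠ 1 := fun e => hy1 (congrArg Subtype.val e)
  obtain ⟨k, hk⟩ := mem_powers_of_prime_card (g' := (⟨h, hh⟩ : ↥(P : Subgroup G))) hP hne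
  refine ⟨k, ?_⟩
  have := congrArg Subtype.val hk
  simpa using this

theorem pow_p_eq_one (hP : Nat.card P = p) {y : G} (hy : y ∈ (P : Subgroup G)) : y ^ p = 1 := by
  have h := pow_card_eq_one' (G := ↥(P : Subgroup G)) (x := ⟨y, hy⟩)
  rw [hP] at h
  have := congrArg Subtype.val h
  simpa using this

/-- `P` is abelian -/
theorem comm_of_mem (hP : Nat.card P = p) {a b : G} (ha : a ∈ (P : Subgroup G))
    (hb : b ∈ (P : Subgroup G)) : a * b = b * a := by
  by_cases ha1 : a = 1
  · rw [ha1, one_mul, mul_one]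
  · obtain ⟨k, rfl⟩ := exists_pow_eq P hP ha ha1 hb
    rw [← pow_succ', ← pow_succ]

/-- `P ∩ Z(G) = 1` when `P` is not normal -/
theorem eq_one_of_mem_center (hP : Nat.card P = p) (hnn : ¬ (P : Subgroup G).Normal) {y : G}
    (hy : y ∈ (P : Subgroup G)) (hyZ : y ∈ Subgroup.center G) : y = 1 := by
  by_contra hy1
  apply hnn
  constructor
  intro n hn g
  obtain ⟨k, rfl⟩ := exists_pow_eq P hP hy hy1 hn
  have hc : g * y ^ k = y ^ k * g :=
    ((Subgroup.mem_center_iff.mp (Subgroup.pow_mem _ hyZ k)) g)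
  rw [hc, mul_inv_cancel_right]
  exact Subgroup.pow_mem _ hy k

/-- every element of order dividing `p` is conjugate into `P` -/
theorem exists_conj_mem {c : G} (hc : c ^ p = 1) : ∃ a : G, a⁻¹ * c * a ∈ (P : Subgroup G) := by
  have hK : IsPGroup p (Subgroup.zpowers c) := by
    rintro ⟨g, hg⟩
    refine ⟨1, ?_⟩
    obtain ⟨k, rfl⟩ := Subgroup.mem_zpowers_iff.mp hg
    apply Subtype.ext
    simp only [pow_one, Subgroup.coe_pow, Subgroup.coe_one]
    rw [← zpow_natCast, ← zpow_mul, mul_comm, zpow_mul, zpow_natCast, hc, one_zpow]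
  obtain ⟨Q, hQ⟩ := hK.exists_le_sylow
  obtain ⟨a, ha⟩ := MulAction.exists_smul_eq G P Q
  have hcQ : c ∈ (Q : Subgroup G) := hQ (Subgroup.mem_zpowers c)
  rw [← ha, Sylow.coe_subgroup_smul, Subgroup.mem_smul_pointwise_iff_exists] at hcQ
  obtain ⟨s, hs, hsc⟩ := hcQ
  refine ⟨a, ?_⟩
  rw [← hsc, MulAut.smul_def, MulAut.conj_apply]
  have : a⁻¹ * (a * s * a⁻¹) * a = s := by group
  rw [this]
  exact hs

/-- the centre has no element of order `p` -/
theorem center_pow_p (hP : Nat.card P = p) (hnn : ¬ (P : Subgroup G).Normal) {z : G}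
    (hz : z ∈ Subgroup.center G) (hzp : z ^ p = 1) : z = 1 := by
  obtain ⟨a, ha⟩ := exists_conj_mem P hzp
  have hc : a⁻¹ * z * a = z := by
    have := (Subgroup.mem_center_iff.mp hz) a⁻¹
    rw [this, inv_mul_cancel_right]
  rw [hc] at ha
  exact eq_one_of_mem_center P hP hnn ha hz

/-- an element of order dividing `p` centralizing `P` lies in `P` -/
theorem mem_of_centralizer_pow (hP : Nat.card P = p) (hnn : ¬ (P : Subgroup G).Normal)
    (hcent : ∀ c ∈ Subgroup.centralizer ((P : Subgroup G) : Set G),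
      ∃ y ∈ (P : Subgroup G), ∃ z ∈ Subgroup.center G, c = y * z)
    {c : G} (hc : c ∈ Subgroup.centralizer ((P : Subgroup G) : Set G)) (hcp : c ^ p = 1) :
    c ∈ (P : Subgroup G) := by
  obtain ⟨y, hy, z, hz, rfl⟩ := hcent c hc
  have hcomm : Commute y z := (Subgroup.mem_center_iff.mp hz) y
  rw [hcomm.mul_pow, pow_p_eq_one P hP hy, one_mul] at hcp
  rw [center_pow_p P hP hnn hz hcp, mul_one]
  exact hy

theorem inv_conj_pow (x g : G) (k : ℕ) : (x⁻¹ * g * x) ^ k = x⁻¹ * g ^ k * x := by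
  have := conj_pow (i := k) (a := x⁻¹) (b := g)
  rwa [inv_inv] at this

/-- for a `p`-singular `g`, the `x` with `x⁻¹ g x ∈ C_G(P) ∖ Z(G)` form a coset of `N_G(P)` -/
theorem exists_coset (hP : Nat.card P = p) (hnn : ¬ (P : Subgroup G).Normal)
    (hcent : ∀ c ∈ Subgroup.centralizer ((P : Subgroup G) : Set G),
      ∃ y ∈ (P : Subgroup G), ∃ z ∈ Subgroup.center G, c = y * z)
    {g : G} (hg : p ∣ orderOf g) :
    ∃ x₀ : G, ∀ x : G,
      (x⁻¹ * g * x ∈ Subgroup.centralizer ((P : Subgroup G) : Set G) ∧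
        x⁻¹ * g * x ∉ Subgroup.center G) ↔
      x₀⁻¹ * x ∈ Subgroup.normalizer ((P : Subgroup G) : Set G) := by
  have hpr : p.Prime := Fact.out
  set m := orderOf g / p with hm
  set gp := g ^ m with hgp
  have hord : orderOf gp = p := orderOf_pow_orderOf_div (orderOf_pos g).ne' hg
  have hgpp : gp ^ p = 1 := by rw [← hord]; exact pow_orderOf_eq_one gp
  have hgp1 : gp ≠ 1 := by
    intro h
    rw [h, orderOf_one] at hord
    exact hpr.one_lt.ne hord
  obtain ⟨x₀, hx₀⟩ := exists_conj_mem P hgpp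
  have hy₀1 : x₀⁻¹ * gp * x₀ ≠ 1 := by
    intro h
    apply hgp1
    have : gp = x₀ * (x₀⁻¹ * gp * x₀) * x₀⁻¹ := by group
    rw [this, h]
    group
  refine ⟨x₀, fun x => ?_⟩
  -- the key conjugation identity
  have hkey : ∀ k : ℕ, (x₀⁻¹ * x)⁻¹ * (x₀⁻¹ * gp * x₀) ^ k * (x₀⁻¹ * x) = (x⁻¹ * gp * x) ^ k := by
    intro k
    rw [inv_conj_pow, inv_conj_pow]
    group
  constructor
  · rintro ⟨hC, hZ⟩
    have hy₁ : x⁻¹ * gp * x ∈ (P : Subgroup G) := by
      apply mem_of_centralizer_pow P hP hnn hcent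
      · rw [hgp, ← inv_conj_pow]
        exact Subgroup.pow_mem _ hC m
      · rw [inv_conj_pow, hgpp]
        group
    have hy₁1 : x⁻¹ * gp * x ≠ 1 := by
      intro h
      apply hgp1
      have : gp = x * (x⁻¹ * gp * x) * x⁻¹ := by group
      rw [this, h]
      group
    rw [Subgroup.mem_set_normalizer_iff'']
    intro h
    constructor
    · intro hh
      obtain ⟨k, rfl⟩ := exists_pow_eq P hP hx₀ hy₀1 hh
      rw [SetLike.mem_coe, hkey k]
      exact Subgroup.pow_mem _ hy₁ k
    · intro hh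
      obtain ⟨k, hk⟩ := exists_pow_eq P hP hy₁ hy₁1 hh
      rw [← hkey k] at hk
      have : h = (x₀⁻¹ * gp * x₀) ^ k := by
        have h2 := mul_left_cancel (mul_right_cancel hk)
        exact h2.symm
      rw [SetLike.mem_coe, this]
      exact Subgroup.pow_mem _ hx₀ k
  · intro hn
    rw [Subgroup.mem_set_normalizer_iff''] at hn
    have hy₁ : x⁻¹ * gp * x ∈ (P : Subgroup G) := by
      have := (hn (x₀⁻¹ * gp * x₀)).mp hx₀
      have h1 := hkey 1
      rw [pow_one, pow_one] at h1
      rw [h1] at this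
      exact this
    have hy₁1 : x⁻¹ * gp * x ≠ 1 := by
      intro h
      apply hgp1
      have : gp = x * (x⁻¹ * gp * x) * x⁻¹ := by group
      rw [this, h]
      group
    have hpow : x⁻¹ * gp * x = (x⁻¹ * g * x) ^ m := by rw [inv_conj_pow]
    constructor
    · rw [Subgroup.mem_centralizer_iff]
      intro h hh
      obtain ⟨k, rfl⟩ := exists_pow_eq P hP hy₁ hy₁1 hh
      rw [hpow, ← pow_mul, ← pow_succ, ← pow_succ']
    · intro hZ
      apply hy₁1
      apply eq_one_of_mem_center P hP hnn hy₁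
      rw [hpow]
      exact Subgroup.pow_mem _ hZ m

/-- no conjugate of a `p`-regular element lies in `C_G(P) ∖ Z(G)` -/
theorem not_conj_mem_of_regular (hP : Nat.card P = p) (hnn : ¬ (P : Subgroup G).Normal)
    (hcent : ∀ c ∈ Subgroup.centralizer ((P : Subgroup G) : Set G),
      ∃ y ∈ (P : Subgroup G), ∃ z ∈ Subgroup.center G, c = y * z)
    {g : G} (hg : ¬ p ∣ orderOf g) (x : G) :
    ¬ (x⁻¹ * g * x ∈ Subgroup.centralizer ((P : Subgroup G) : Set G) ∧
        x⁻¹ * g * x ∉ Subgroup.center G) := by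
  have hpr : p.Prime := Fact.out
  rintro ⟨hC, hZ⟩
  obtain ⟨y, hy, z, hz, hyz⟩ := hcent _ hC
  have hy1 : y ≠ 1 := by
    rintro rfl
    rw [one_mul] at hyz
    rw [hyz] at hZ
    exact hZ hz
  have hcomm : Commute y z := (Subgroup.mem_center_iff.mp hz) y
  have h1 : (x⁻¹ * g * x) ^ orderOf g = 1 := by
    rw [inv_conj_pow, pow_orderOf_eq_one]
    group
  rw [hyz, hcomm.mul_pow] at h1
  have hyo : y ^ orderOf g = (z ^ orderOf g)⁻¹ := eq_inv_of_mul_eq_one_left h1
  have hyoZ : y ^ orderOf g ∈ Subgroup.center G := by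
    rw [hyo]
    exact Subgroup.inv_mem _ (Subgroup.pow_mem _ hz _)
  have hyo1 : y ^ orderOf g = 1 :=
    eq_one_of_mem_center P hP hnn (Subgroup.pow_mem _ hy _) hyoZ
  have hordy : orderOf y = p := orderOf_eq_prime (pow_p_eq_one P hP hy) hy1
  apply hg
  rw [← hordy]
  exact orderOf_dvd_of_pow_eq_one hyo1

end grp

section sums

variable {G : Type u} [Group G] [Fintype G] {p : ℕ} [Fact p.Prime] (P : Sylow p G)

open Classical in
/-- sums over `C_G(P) = P × Z(G)` -/
theorem sum_centralizer (hP : Nat.card P = p) (hnn : ¬ (P : Subgroup G).Normal)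
    (hcent : ∀ c ∈ Subgroup.centralizer ((P : Subgroup G) : Set G),
      ∃ y ∈ (P : Subgroup G), ∃ z ∈ Subgroup.center G, c = y * z) (F : G → ℂ) :
    ∑ c ∈ Finset.univ.filter (fun c : G => c ∈ Subgroup.centralizer ((P : Subgroup G) : Set G)),
      F c =
    ∑ y ∈ Finset.univ.filter (fun y : G => y ∈ (P : Subgroup G)),
      ∑ z ∈ Finset.univ.filter (fun z : G => z ∈ Subgroup.center G), F (y * z) := by
  rw [← Finset.sum_product']
  symm
  apply Finset.sum_nbij (fun yz : G × G => yz.1 * yz.2)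
  · rintro ⟨y, z⟩ hyz
    rw [Finset.mem_product, Finset.mem_filter, Finset.mem_filter] at hyz
    rw [Finset.mem_filter]
    refine ⟨Finset.mem_univ _, ?_⟩
    rw [Subgroup.mem_centralizer_iff]
    intro h hh
    have h1 : h * y = y * h := comm_of_mem P hP hh hyz.1.2
    have h2 : h * z = z * h := (Subgroup.mem_center_iff.mp hyz.2.2) h
    calc h * (y * z) = (h * y) * z := by group
      _ = y * (h * z) := by rw [h1]; group
      _ = y * z * h := by rw [h2]; group
  · rintro ⟨y, z⟩ hyz ⟨y', z'⟩ hyz' heq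
    simp only [Finset.coe_product, Finset.coe_filter, Finset.mem_univ, true_and, Set.mem_prod,
      Set.mem_ofPred_eq] at hyz hyz'
    simp only at heq
    have h1 : y'⁻¹ * y = z' * z⁻¹ := by
      calc y'⁻¹ * y = y'⁻¹ * (y * z) * z⁻¹ := by group
        _ = y'⁻¹ * (y' * z') * z⁻¹ := by rw [heq]
        _ = z' * z⁻¹ := by group
    have h2 : y'⁻¹ * y = 1 := by
      apply eq_one_of_mem_center P hP hnn
      · exact Subgroup.mul_mem _ (Subgroup.inv_mem _ hyz'.1) hyz.1
      · rw [h1]
        exact Subgroup.mul_mem _ hyz'.2 (Subgroup.inv_mem _ hyz.2)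
    have hy : y = y' := (inv_mul_eq_one.mp h2).symm
    have hz : z = z' := by
      rw [hy] at heq
      exact mul_left_cancel heq
    rw [hy, hz]
  · intro c hc
    have hc' : c ∈ Subgroup.centralizer ((P : Subgroup G) : Set G) := by
      have := Finset.mem_coe.mp hc
      exact (Finset.mem_filter.mp this).2
    obtain ⟨y, hy, z, hz, rfl⟩ := hcent c hc'
    refine ⟨(y, z), ?_, rfl⟩
    simp only [Finset.coe_product, Finset.coe_filter, Finset.mem_univ, true_and, Set.mem_prod,
      Set.mem_ofPred_eq]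
    exact ⟨hy, hz⟩
  · intro yz _
    rfl

/-- **S4705-[PSING-COUNT]** -/
theorem psing_sum {G : Type u} [Group G] [Fintype G] {p : ℕ} [Fact p.Prime] (P : Sylow p G)
    (hP : Nat.card P = p) (hnn : ¬ (P : Subgroup G).Normal)
    (hcent : ∀ c ∈ Subgroup.centralizer ((P : Subgroup G) : Set G),
      ∃ y ∈ (P : Subgroup G), ∃ z ∈ Subgroup.center G, c = y * z)
    (hidx : (Subgroup.centralizer ((P : Subgroup G) : Set G)).relIndex
      (Subgroup.normalizer ((P : Subgroup G) : Set G)) = 2)
    [Fintype ↥(P : Subgroup G)]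
    (f : G → ℂ) (hf : IsClassFunction G f)
    (hfz : ∀ y ∈ (P : Subgroup G), ∀ z ∈ Subgroup.center G, f (y * z) = f y) :
    (2 * (p : ℂ)) * ∑ g : G, (if p ∣ orderOf g then f g else 0) =
      (Nat.card G : ℂ) * (∑ y : ↥(P : Subgroup G), f (y : G) - f 1) := by
  classical
  set C : Subgroup G := Subgroup.centralizer ((P : Subgroup G) : Set G) with hCdef
  set Z : Subgroup G := Subgroup.center G with hZdef
  set N : Subgroup G := Subgroup.normalizer ((P : Subgroup G) : Set G) with hNdef
  set FC : Finset G := Finset.univ.filter (fun c : G => c ∈ C) with hFC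
  set FP : Finset G := Finset.univ.filter (fun c : G => c ∈ (P : Subgroup G)) with hFP
  set FZ : Finset G := Finset.univ.filter (fun c : G => c ∈ Z) with hFZ
  set FN : Finset G := Finset.univ.filter (fun c : G => c ∈ N) with hFN
  have hZC : Z ≤ C := Subgroup.center_le_centralizer _
  have hCN : C ≤ N := Subgroup.centralizer_le_normalizer _
  -- cardinalities
  have hcardP : (FP.card : ℂ) = p := by
    have h1 : FP.card = Nat.card ↥(P : Subgroup G) := by
      rw [hFP, Nat.card_eq_fintype_card]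
      exact (Fintype.card_of_subtype _ (by simp)).symm
    rw [h1, hP]
  have hcardC : (FC.card : ℂ) = (p : ℂ) * FZ.card := by
    have := sum_centralizer P hP hnn hcent (fun _ => (1 : ℂ))
    simp only [Finset.sum_const, nsmul_eq_mul, mul_one] at this
    rw [← hcardP, hFC, this]
  have hcardN : (FN.card : ℂ) = 2 * FC.card := by
    have hc1 : FC.card = Nat.card C := by
      rw [hFC, Nat.card_eq_fintype_card, Fintype.card_subtype]
    have hn1 : FN.card = Nat.card N := by
      rw [hFN, Nat.card_eq_fintype_card, Fintype.card_subtype]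
    have h1 := Subgroup.relIndex_mul_index hCN
    rw [hidx] at h1
    have h2 := Subgroup.card_mul_index C
    have h3 := Subgroup.card_mul_index N
    have hNi : N.index ≠ 0 := Subgroup.index_ne_zero_of_finite
    have h4 : Nat.card N * N.index = (2 * Nat.card C) * N.index := by
      rw [h3, ← h2, ← h1]
      ring
    have h5 : Nat.card N = 2 * Nat.card C := Nat.eq_of_mul_eq_mul_right (Nat.pos_of_ne_zero hNi) h4
    rw [hn1, hc1, h5]
    push_cast
    ring
  have hZne : (FZ.card : ℂ) ≠ 0 := by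
    have : 0 < FZ.card := Finset.card_pos.mpr ⟨1, by rw [hFZ, Finset.mem_filter]; exact ⟨Finset.mem_univ _, Z.one_mem⟩⟩
    exact_mod_cast this.ne'
  -- the double sum
  set T : ℂ := ∑ x : G, ∑ g : G, (if (x⁻¹ * g * x ∈ C ∧ x⁻¹ * g * x ∉ Z) then f g else 0) with hT
  -- first evaluation
  have hT1 : T = (FN.card : ℂ) * ∑ g : G, (if p ∣ orderOf g then f g else 0) := by
    rw [hT, Finset.sum_comm, Finset.mul_sum]
    apply Finset.sum_congr rfl
    intro g _
    by_cases hg : p ∣ orderOf g
    · rw [if_pos hg]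
      obtain ⟨x₀, hx₀⟩ := exists_coset P hP hnn hcent hg
      have h1 : ∀ x : G, (if (x⁻¹ * g * x ∈ C ∧ x⁻¹ * g * x ∉ Z) then f g else 0)
          = if x₀⁻¹ * x ∈ N then f g else 0 := by
        intro x
        exact if_congr (hx₀ x) rfl rfl
      rw [Finset.sum_congr rfl (fun x _ => h1 x)]
      have h2 : ∑ x : G, (if x₀⁻¹ * x ∈ N then f g else 0) = ∑ n : G, (if n ∈ N then f g else 0) :=
        Fintype.sum_equiv (Equiv.mulLeft x₀⁻¹) _ _ (fun x => rfl)
      rw [h2, ← Finset.sum_filter, Finset.sum_const, nsmul_eq_mul]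
    · rw [if_neg hg, mul_zero]
      apply Finset.sum_eq_zero
      intro x _
      rw [if_neg (not_conj_mem_of_regular P hP hnn hcent hg x)]
  -- second evaluation
  set D : ℂ := ∑ c : G, (if (c ∈ C ∧ c ∉ Z) then f c else 0) with hD
  have hT2 : T = (Nat.card G : ℂ) * D := by
    rw [hT]
    have h1 : ∀ x : G, ∑ g : G, (if (x⁻¹ * g * x ∈ C ∧ x⁻¹ * g * x ∉ Z) then f g else 0) = D := by
      intro x
      rw [hD]
      apply Fintype.sum_equiv (MulAut.conj x⁻¹).toEquiv
      intro g
      have e : (MulAut.conj x⁻¹).toEquiv g = x⁻¹ * g * x := by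
        simp
      rw [e]
      have hfg : f (x⁻¹ * g * x) = f g := by
        have := hf g x⁻¹
        rwa [inv_inv] at this
      rw [hfg]
    rw [Finset.sum_congr rfl (fun x _ => h1 x), Finset.sum_const, Finset.card_univ, nsmul_eq_mul,
      Nat.card_eq_fintype_card]
  -- the inner sum
  have hD1 : D = (FZ.card : ℂ) * (∑ y : ↥(P : Subgroup G), f (y : G) - f 1) := by
    have h1 : ∀ c : G, (if (c ∈ C ∧ c ∉ Z) then f c else 0)
        = (if c ∈ C then f c else 0) - (if c ∈ Z then f c else 0) := by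
      intro c
      by_cases hcZ : c ∈ Z
      · have hcC : c ∈ C := hZC hcZ
        simp [hcZ, hcC]
      · by_cases hcC : c ∈ C
        · simp [hcZ, hcC]
        · simp [hcZ, hcC]
    rw [hD, Finset.sum_congr rfl (fun c _ => h1 c), Finset.sum_sub_distrib, ← Finset.sum_filter,
      ← Finset.sum_filter]
    have h2 : ∑ c ∈ Finset.univ.filter (fun c : G => c ∈ C), f c
        = (FZ.card : ℂ) * ∑ y : ↥(P : Subgroup G), f (y : G) := by
      rw [sum_centralizer P hP hnn hcent f]
      have h3 : ∀ y ∈ Finset.univ.filter (fun y : G => y ∈ (P : Subgroup G)),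
          ∑ z ∈ Finset.univ.filter (fun z : G => z ∈ Subgroup.center G), f (y * z)
            = (FZ.card : ℂ) * f y := by
        intro y hy
        have hyP : y ∈ (P : Subgroup G) := (Finset.mem_filter.mp hy).2
        rw [Finset.sum_congr rfl (fun z hz => hfz y hyP z (Finset.mem_filter.mp hz).2),
          Finset.sum_const, nsmul_eq_mul]
      rw [Finset.sum_congr rfl h3, ← Finset.mul_sum]
      congr 1
      exact Finset.sum_subtype (Finset.univ.filter (fun y : G => y ∈ (P : Subgroup G)))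
        (by simp) (fun y => f y)
    have h4 : ∑ c ∈ Finset.univ.filter (fun c : G => c ∈ Z), f c = (FZ.card : ℂ) * f 1 := by
      have h5 : ∀ z ∈ Finset.univ.filter (fun c : G => c ∈ Z), f z = f 1 := by
        intro z hz
        have := hfz 1 (Subgroup.one_mem _) z (Finset.mem_filter.mp hz).2
        rwa [one_mul] at this
      rw [Finset.sum_congr rfl h5, Finset.sum_const, nsmul_eq_mul]
    rw [h2, h4]
    ring
  -- conclusion
  have hfin : (FN.card : ℂ) * ∑ g : G, (if p ∣ orderOf g then f g else 0)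
      = (Nat.card G : ℂ) * ((FZ.card : ℂ) * (∑ y : ↥(P : Subgroup G), f (y : G) - f 1)) := by
    rw [← hT1, hT2, hD1]
  rw [hcardN, hcardC] at hfin
  apply mul_left_cancel₀ hZne
  calc (FZ.card : ℂ) * (2 * (p : ℂ) * ∑ g : G, (if p ∣ orderOf g then f g else 0))
      = 2 * ((p : ℂ) * FZ.card) * ∑ g : G, (if p ∣ orderOf g then f g else 0) := by ring
    _ = (Nat.card G : ℂ) * ((FZ.card : ℂ) * (∑ y : ↥(P : Subgroup G), f (y : G) - f 1)) := hfin
    _ = (FZ.card : ℂ) * ((Nat.card G : ℂ) * (∑ y : ↥(P : Subgroup G), f (y : G) - f 1)) := by ring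

end sums

end Cfsg.Agent.Lib.Helper23.S4705
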